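import Groth.Agent.NeronSplitP.Main
import Mathlib.AlgebraicGeometry.AlgClosed.Basic
import Mathlib.AlgebraicGeometry.Morphisms.FinitePresentation

/-!
# `p`-power torsion reaches every `p`-primary component
-/

set_option autoImplicit false
set_option backward.isDefEq.respectTransparency.types false

universe u v

open CategoryTheory MonoidalCategory CartesianMonoidalCategory MonObj GrpObj AlgebraicGeometry
  Limits IsLocalRing TopologicalSpace Topology
open Groth.Agent.GrpScheme

namespace Groth.Agent.NeronSplitP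

/-- Near a point, the closure of the point is inside a constructible set or misses it. -/
theorem exists_open_dichotomy {X : Type v} [TopologicalSpace X] {s : Set X} (hs : IsConstructible s) :
    ∀ x : X, ∃ U : Set X, IsOpen U ∧ x ∈ U ∧ (closure {x} ∩ U ⊆ s ∨ closure {x} ∩ U ⊆ sᶜ) := by
  induction hs using IsConstructible.empty_union_induction with
  | open_retrocompact U hU _ =>
    intro x
    by_cases hx : x ∈ U
    · exact ⟨U, hU, hx, Or.inl Set.inter_subset_right⟩
    · refine ⟨Set.univ, isOpen_univ, trivial, Or.inr fun y hy hyU => hx ?_⟩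
      exact (specializes_iff_mem_closure.2 hy.1).mem_open hU hyU
  | union s _ t _ hs ht =>
    intro x
    obtain ⟨U, hU, hxU, h⟩ := hs x
    obtain ⟨V, hV, hxV, h'⟩ := ht x
    rcases h with h | h
    · exact ⟨U, hU, hxU, Or.inl fun y hy => Or.inl (h hy)⟩
    · rcases h' with h' | h'
      · exact ⟨V, hV, hxV, Or.inl fun y hy => Or.inr (h' hy)⟩
      · exact ⟨U ∩ V, hU.inter hV, ⟨hxU, hxV⟩, Or.inr fun y hy => fun hst =>
          hst.elim (fun hys => h ⟨hy.1, hy.2.1⟩ hys) (fun hyt => h' ⟨hy.1, hy.2.2⟩ hyt)⟩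
  | compl s _ hs =>
    intro x
    obtain ⟨U, hU, hxU, h⟩ := hs x
    exact ⟨U, hU, hxU, h.symm.imp id fun h => by rwa [compl_compl]⟩

variable {K : Type u} [Field K] [IsAlgClosed K] (G : Over (Spec (CommRingCat.of K))) [GrpObj G]
  [IsCommMonObj G] [Smooth G.hom] [QuasiCompact G.hom] [IsSeparated G.hom] [NoetherianSpace G.left]

omit [GrpObj G] [IsCommMonObj G] [QuasiCompact G.hom] [IsSeparated G.hom] [NoetherianSpace G.left] in
theorem exists_pt_mem {Z : Set G.left} (hne : Z.Nonempty) (hZ : IsLocallyClosed Z) :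
    ∃ g : 𝟙_ (Over (Spec (CommRingCat.of K))) ⟶ G, pt G g ∈ Z := by
  have : JacobsonSpace G.left := LocallyOfFiniteType.jacobsonSpace (Y := Spec _) G.hom
  obtain ⟨x, hxZ, hx⟩ := nonempty_inter_closedPoints hne hZ
  refine ⟨Over.homMk (pointOfClosedPoint G.hom x hx) (pointOfClosedPoint_comp G.hom x hx), ?_⟩
  show (pointOfClosedPoint G.hom x hx) (closedPoint K) ∈ Z
  rwa [pointOfClosedPoint_apply]

/-- The image of the unit component by the `m`-th power. -/
noncomputable def powImage (m : ℕ) : Set G.left :=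
  ((𝟙 G : G ⟶ G) ^ m).left '' connectedComponent (pt G 1)

omit [IsAlgClosed K] [IsCommMonObj G] [Smooth G.hom] [QuasiCompact G.hom] [IsSeparated G.hom] [NoetherianSpace G.left] in
theorem comp_pow (w : 𝟙_ (Over (Spec (CommRingCat.of K))) ⟶ G) (m : ℕ) : w ≫ ((𝟙 G : G ⟶ G) ^ m) = w ^ m := by
  rw [MonObj.comp_pow, Category.comp_id]

theorem exists_mem_of_pt_mem (m : ℕ) (v : 𝟙_ (Over (Spec (CommRingCat.of K))) ⟶ G) (hv : pt G v ∈ powImage G m) :
    ∃ w ∈ unitPoints G, w ^ m = v := by
  let P : G ⟶ G := (𝟙 G : G ⟶ G) ^ m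
  obtain ⟨y, hyC, hy⟩ := hv
  have : LocallyOfFiniteType (P.left ≫ G.hom) := by rw [Over.w P]; infer_instance
  have : LocallyOfFiniteType P.left := locallyOfFiniteType_of_comp P.left G.hom
  let q : pullback P.left v.left ⟶ Spec (CommRingCat.of K) := pullback.snd P.left v.left
  have : LocallyOfFiniteType q := MorphismProperty.pullback_snd (P := @LocallyOfFiniteType) P.left v.left ‹_›
  obtain ⟨z, hz, -⟩ := Scheme.Pullback.exists_preimage_pullback (f := P.left) (g := v.left)
    y (closedPoint K) hy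
  have : JacobsonSpace (pullback P.left v.left : Scheme.{u}) := LocallyOfFiniteType.jacobsonSpace (Y := Spec _) q
  obtain ⟨x, hxC, hx⟩ := nonempty_inter_closedPoints
    (Z := pullback.fst P.left v.left ⁻¹' connectedComponent (pt G 1)) ⟨z, show pullback.fst P.left v.left z ∈ connectedComponent (pt G 1) by rw [hz]; exact hyC⟩
    ((isOpen_component G _).preimage (pullback.fst P.left v.left).continuous).isLocallyClosed
  let s := pointOfClosedPoint q x hx
  have hs : s ≫ q = 𝟙 _ := pointOfClosedPoint_comp q x hx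
  let w : 𝟙_ (Over (Spec (CommRingCat.of K))) ⟶ G := Over.homMk (s ≫ pullback.fst P.left v.left) (by
    change (s ≫ pullback.fst P.left v.left) ≫ G.hom = _
    rw [← Over.w P, Category.assoc, pullback.condition_assoc, reassoc_of% hs, Over.w v])
  refine ⟨w, (connectedComponent_eq (show pt G w ∈ connectedComponent (pt G 1) from ?_)).symm, ?_⟩
  · show pullback.fst P.left v.left (s (closedPoint K)) ∈ _
    rw [pointOfClosedPoint_apply]
    exact hxC
  · have : w ≫ P = v := by
      ext1
      change (s ≫ pullback.fst P.left v.left) ≫ P.left = v.left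
      rw [Category.assoc, pullback.condition, reassoc_of% hs]
    rw [← comp_pow G w m]
    exact this

theorem pt_pow_mem (m : ℕ) {w : 𝟙_ (Over (Spec (CommRingCat.of K))) ⟶ G} (hw : w ∈ unitPoints G) :
    pt G (w ^ m) ∈ powImage G m :=
  ⟨pt G w, (show connectedComponent (pt G w) = connectedComponent (pt G 1) from hw) ▸ mem_connectedComponent,
    by rw [← pt_comp, comp_pow]⟩

theorem powImage_mul_subset (a b : ℕ) : powImage G (a * b) ⊆ powImage G b := by
  rintro _ ⟨y, hy, rfl⟩
  refine ⟨((𝟙 G : G ⟶ G) ^ a).left y, ?_, ?_⟩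
  · have h1 : pt G 1 = ((𝟙 G : G ⟶ G) ^ a).left (pt G 1) := by rw [← pt_comp, comp_pow, one_pow]
    rw [h1]
    exact ((𝟙 G : G ⟶ G) ^ a).left.continuous.image_connectedComponent_subset _ ⟨y, hy, rfl⟩
  · rw [← Scheme.Hom.comp_apply, ← Over.comp_left, MonObj.comp_pow, Category.comp_id, ← pow_mul]

/-- The power images of the component stabilise. -/
theorem exists_stable (p : ℕ) : ∃ T : ℕ, ∀ t, T ≤ t → closure (powImage G (p ^ t)) = closure (powImage G (p ^ T)) := by
  let f : ℕ →o (Closeds G.left)ᵒᵈ :=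
    { toFun := fun t => OrderDual.toDual ⟨closure (powImage G (p ^ t)), isClosed_closure⟩
      monotone' := monotone_nat_of_le_succ fun t => by
        refine closure_mono ?_
        rw [pow_succ']
        exact powImage_mul_subset G p (p ^ t) }
  obtain ⟨T, hT⟩ := WellFoundedGT.monotone_chain_condition f
  exact ⟨T, fun t ht => (congrArg (fun c : (Closeds G.left)ᵒᵈ => ((OrderDual.ofDual c : Closeds G.left) : Set G.left)) (hT t ht)).symm⟩

/-- Every element of the component is a `p^(T+r)`-th power up to `p^T`-torsion. -/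
theorem exists_pow_eq (p r : ℕ) : ∃ T : ℕ, ∀ z ∈ unitPoints G,
    ∃ w ∈ unitPoints G, w ^ (p ^ (T + r)) = z ^ (p ^ T) := by
  obtain ⟨T, hT⟩ := exists_stable G p
  refine ⟨T, fun z hz => ?_⟩
  let C : Set G.left := connectedComponent (pt G 1)
  let v := z ^ (p ^ T)
  let P : G ⟶ G := (𝟙 G : G ⟶ G) ^ (p ^ (T + r))
  let E := powImage G (p ^ (T + r))
  let Z := closure E
  have hCirr : IsIrreducible C := by
    rw [show C = irreducibleComponent (IdComponent.e₀ G) by
      rw [← IdComponent.connectedComponent_eq]; show connectedComponent (pt G 1) = _; rw [one_eq]]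
    exact isIrreducible_irreducibleComponent
  have hEirr : IsIrreducible Z := (hCirr.image _ P.left.continuous.continuousOn).closure
  have hEc : IsConstructible E := by
    have : LocallyOfFiniteType (P.left ≫ G.hom) := by rw [Over.w P]; infer_instance
    have : LocallyOfFiniteType P.left := locallyOfFiniteType_of_comp P.left G.hom
    have : IsLocallyNoetherian G.left := LocallyOfFiniteType.isLocallyNoetherian G.hom
    have : LocallyOfFinitePresentation P.left := LocallyOfFinitePresentation.iff_locallyOfFiniteType.2 ‹_›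
    have : IsNoetherian G.left := { toCompactSpace := inferInstance, toIsLocallyNoetherian := inferInstance }
    have : QuasiCompact P.left := inferInstance
    exact P.left.isConstructible_image
      ((NoetherianSpace.isCompact C).isConstructible (isOpen_component G _))
  obtain ⟨ζ, hζ⟩ := QuasiSober.sober hEirr isClosed_closure
  obtain ⟨U, hU, hζU, hsub | hsub⟩ := exists_open_dichotomy hEc ζ
  swap
  · exfalso
    obtain ⟨y, hyU, hyE⟩ := mem_closure_iff.1 (hζ.mem : ζ ∈ closure E) U hU hζU
    exact hsub ⟨hζ.def.symm.subset (subset_closure hyE), hyU⟩ hyE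
  rw [hζ.def] at hsub
  let t : G ≅ G := Basic.translate v
  let h : G.left ≃ₜ G.left := Scheme.homeoOfIso ((Over.forget _).mapIso t)
  have hcomm : ((𝟙 G : G ⟶ G) ^ (p ^ T)) ≫ t.hom = (Basic.translate z).hom ≫ ((𝟙 G : G ⟶ G) ^ (p ^ T)) := by
    have hc : ∀ (Y : Over (Spec (CommRingCat.of K))) (g : Y ⟶ G) (a : 𝟙_ (Over (Spec (CommRingCat.of K))) ⟶ G),
        g ≫ (Basic.translate a).hom = (toUnit Y ≫ a) * g := fun Y g a => by
      simp only [Basic.translate, MonObj.comp_mul, Category.comp_id]
      rw [← Category.assoc, comp_toUnit]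
    rw [hc, MonObj.comp_pow]
    show _ = ((toUnit G ≫ z) * 𝟙 G) ≫ (𝟙 G ^ (p ^ T))
    rw [MonObj.comp_pow, Category.comp_id, mul_pow]
  have himg : h '' powImage G (p ^ T) = powImage G (p ^ T) := by
    have hzC : (Basic.translate z).hom.left '' C = C := by
      rw [image_component, _root_.mul_one]; exact hz
    calc h '' powImage G (p ^ T) = (((𝟙 G : G ⟶ G) ^ (p ^ T)) ≫ t.hom).left '' C := by
          rw [powImage, Set.image_image]
          exact Set.image_congr fun y _ => rfl
      _ = ((𝟙 G : G ⟶ G) ^ (p ^ T)).left '' ((Basic.translate z).hom.left '' C) := by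
          rw [hcomm, Set.image_image]
          exact Set.image_congr fun y _ => Scheme.Hom.comp_apply _ _ y
      _ = powImage G (p ^ T) := by rw [hzC]; rfl
  have hZ : h '' Z = Z := by
    show h '' closure E = closure E
    rw [hT (T + r) (Nat.le_add_right T r), h.image_closure, himg]
  have hne1 : (Z ∩ U).Nonempty := ⟨ζ, hζ.mem, hζU⟩
  have hne2 : (Z ∩ h ⁻¹' U).Nonempty := by
    obtain ⟨a, ha, hha⟩ := hZ.symm.subset hζ.mem
    exact ⟨a, ha, show h a ∈ U from hha ▸ hζU⟩
  have hUo : IsOpen (U ∩ h ⁻¹' U) := hU.inter (hU.preimage h.continuous)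
  obtain ⟨g, hg, hgU, hghU⟩ := exists_pt_mem G (Z := Z ∩ (U ∩ h ⁻¹' U))
    (hEirr.isPreirreducible U (h ⁻¹' U) hU (hU.preimage h.continuous) hne1 hne2)
    (isClosed_closure.isLocallyClosed.inter hUo.isLocallyClosed)
  obtain ⟨w₁, h₁, hw₁⟩ := exists_mem_of_pt_mem G _ g (hsub ⟨hg, hgU⟩)
  have hvg : pt G (v * g) ∈ E := by
    refine hsub ⟨?_, ?_⟩
    · rw [← comp_translate, pt_comp]
      exact hZ.subset ⟨_, hg, rfl⟩
    · rw [← comp_translate, pt_comp]
      exact hghU
  obtain ⟨w₂, h₂, hw₂⟩ := exists_mem_of_pt_mem G _ (v * g) hvg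
  refine ⟨w₂ * w₁⁻¹, (unitPoints G).mul_mem h₂ ((unitPoints G).inv_mem h₁), ?_⟩
  rw [mul_pow, inv_pow, hw₁, hw₂, mul_inv_cancel_right]

/-- Every `p`-primary component contains `p`-power torsion. -/
theorem exists_pPower_torsion (p : ℕ) (x : 𝟙_ (Over (Spec (CommRingCat.of K))) ⟶ G) (r : ℕ)
    (hx : pt G (x ^ (p ^ r)) ∈ connectedComponent (pt G η[G])) :
    ∃ y : 𝟙_ (Over (Spec (CommRingCat.of K))) ⟶ G, pt G y ∈ connectedComponent (pt G x) ∧ ∃ s : ℕ, y ^ (p ^ s) = 1 := by
  rw [← one_eq, mem_component_iff, inv_one, _root_.one_mul] at hx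
  obtain ⟨T, hT⟩ := exists_pow_eq G p r
  obtain ⟨w, hw, hwz⟩ := hT _ hx
  refine ⟨x * w⁻¹, ?_, T + r, ?_⟩
  · rw [mem_component_iff, inv_mul_cancel_left]
    exact (unitPoints G).inv_mem hw
  · rw [mul_pow, inv_pow, hwz, ← pow_mul, ← pow_add, add_comm r T, _root_.mul_inv_cancel]

end Groth.Agent.NeronSplitP
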