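import Groth.Agent.GrpScheme.FgPoints
import Groth.Agent.GrpScheme.IdComponent
import Mathlib.Topology.NoetherianSpace
import Mathlib.GroupTheory.OrderOfElement

/-!
# Splitting of the component sequence is a question about the `p`-part
-/

set_option autoImplicit false
set_option backward.isDefEq.respectTransparency.types false

universe u v

open CategoryTheory MonoidalCategory CartesianMonoidalCategory MonObj GrpObj AlgebraicGeometry
  Limits IsLocalRing TopologicalSpace
open Groth.Agent.GrpScheme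

namespace Groth.Agent.NeronSplitP

/-- Splitting of a torsion quotient can be tested on the `p`-part, given lifts prime to `p`. -/
theorem split_of_pPart {A : Type v} [CommGroup A] (H : Subgroup A) (p : ℕ) (hp : p.Prime)
    (htor : ∀ x : A, ∃ m : ℕ, 0 < m ∧ x ^ m ∈ H)
    (hlift : ∀ (m : ℕ) (x : A), ¬ p ∣ m → x ^ m ∈ H → ∃ y : A, x⁻¹ * y ∈ H ∧ y ^ m = 1)
    (hP : ∀ x : A, (∃ r : ℕ, x ^ (p ^ r) ∈ H) → ∃ y : A, x⁻¹ * y ∈ H ∧ ∀ n : ℕ, y ^ n = 1 ↔ x ^ n ∈ H)
    (x : A) : ∃ y : A, x⁻¹ * y ∈ H ∧ ∀ n : ℕ, y ^ n = 1 ↔ x ^ n ∈ H := by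
  have one_way : ∀ (a b : A) (n : ℕ), a⁻¹ * b ∈ H → b ^ n = 1 → a ^ n ∈ H := fun a b n hab hb => by
    have := H.pow_mem hab n
    rw [mul_pow, hb, _root_.mul_one, inv_pow] at this
    exact H.inv_mem_iff.1 this
  obtain ⟨m, hm, hxm⟩ := htor x
  obtain ⟨r, m', hm', rfl⟩ := Nat.exists_eq_pow_mul_and_not_dvd hm.ne' p hp.ne_one
  have hco : IsCoprime ((p ^ r : ℕ) : ℤ) (m' : ℤ) :=
    Nat.isCoprime_iff_coprime.2 (Nat.Coprime.pow_left r ((Nat.Prime.coprime_iff_not_dvd hp).2 hm'))
  obtain ⟨a, b, hab⟩ := hco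
  have hxz : x ^ ((((p ^ r : ℕ) : ℤ)) * (m' : ℤ)) ∈ H := by
    rw [← Nat.cast_mul, zpow_natCast]; exact hxm
  obtain ⟨y₁, hy₁, hn₁⟩ := hP (x ^ (b * (m' : ℤ))) ⟨r, by
    rw [← zpow_natCast, ← zpow_mul, show b * (m' : ℤ) * ((p ^ r : ℕ) : ℤ) = ((p ^ r : ℕ) : ℤ) * (m' : ℤ) * b by ring,
      zpow_mul]
    exact H.zpow_mem hxz b⟩
  let x₂ : A := x ^ (a * ((p ^ r : ℕ) : ℤ))
  have hx₂ : x₂ ^ m' ∈ H := by
    rw [← zpow_natCast, ← zpow_mul, show a * ((p ^ r : ℕ) : ℤ) * (m' : ℤ) = ((p ^ r : ℕ) : ℤ) * (m' : ℤ) * a by ring,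
      zpow_mul]
    exact H.zpow_mem hxz a
  have hord : ∀ n : ℕ, orderOf (x₂ : A ⧸ H) ∣ n ↔ x₂ ^ n ∈ H := fun n => by
    rw [orderOf_dvd_iff_pow_eq_one, ← QuotientGroup.mk_pow, QuotientGroup.eq_one_iff]
  obtain ⟨y₂, hy₂, hy₂'⟩ := hlift (orderOf (x₂ : A ⧸ H)) x₂
    (fun h => hm' (h.trans ((hord m').2 hx₂))) ((hord _).1 dvd_rfl)
  have hn₂ : ∀ n : ℕ, y₂ ^ n = 1 ↔ x₂ ^ n ∈ H := fun n => by
    refine ⟨one_way x₂ y₂ n hy₂, fun h => ?_⟩
    obtain ⟨c, hc⟩ := (hord n).2 h
    rw [hc, pow_mul, hy₂', one_pow]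
  have hx : x ^ (b * (m' : ℤ)) * x₂ = x := by
    rw [← zpow_add, add_comm, hab, zpow_one]
  have hy : x⁻¹ * (y₁ * y₂) ∈ H := by
    have h := H.mul_mem hy₁ hy₂
    rw [_root_.mul_mul_mul_comm, ← _root_.mul_inv, hx] at h
    exact h
  refine ⟨y₁ * y₂, hy, fun n => ⟨one_way x _ n hy, fun h => ?_⟩⟩
  have h1 : y₁ ^ n = 1 := (hn₁ n).2 (by
    rw [← zpow_natCast, ← zpow_mul, mul_comm, zpow_mul, zpow_natCast]; exact H.zpow_mem h _)
  have h2 : y₂ ^ n = 1 := (hn₂ n).2 (by
    rw [← zpow_natCast, ← zpow_mul, mul_comm, zpow_mul, zpow_natCast]; exact H.zpow_mem h _)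
  rw [mul_pow, h1, h2, _root_.one_mul]

variable {K : Type u} [Field K] (G : Over (Spec (CommRingCat.of K))) [GrpObj G]

/-- The point of a rational point. -/
noncomputable abbrev pt (g : 𝟙_ (Over (Spec (CommRingCat.of K))) ⟶ G) : G.left := g.left (closedPoint K)

theorem pt_comp (g : 𝟙_ (Over (Spec (CommRingCat.of K))) ⟶ G) (f : G ⟶ G) : pt G (g ≫ f) = f.left (pt G g) := by
  exact Scheme.Hom.comp_apply g.left f.left (closedPoint K)

theorem comp_translate (g h : 𝟙_ (Over (Spec (CommRingCat.of K))) ⟶ G) : h ≫ (Basic.translate g).hom = g * h := by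
  simp only [Basic.translate, MonObj.comp_mul, Category.comp_id]
  rw [← Category.assoc, toUnit_unique (h ≫ toUnit G) (𝟙 _), Category.id_comp]

theorem one_eq : (1 : 𝟙_ (Over (Spec (CommRingCat.of K))) ⟶ G) = η[G] := by
  rw [Hom.one_def, toUnit_unique (toUnit _) (𝟙 _), Category.id_comp]

theorem image_component (g h : 𝟙_ (Over (Spec (CommRingCat.of K))) ⟶ G) :
    (Basic.translate g).hom.left '' connectedComponent (pt G h) = connectedComponent (pt G (g * h)) := by
  rw [← comp_translate G g h, pt_comp]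
  let e : G.left ≃ₜ G.left := Scheme.homeoOfIso ((Over.forget _).mapIso (Basic.translate g))
  have hc := e.image_connectedComponentIn (Set.mem_univ (pt G h))
  simp only [connectedComponentIn_univ, Set.image_univ, e.surjective.range_eq] at hc
  exact hc

/-- The rational points on the component of the unit. -/
noncomputable def unitPoints : Subgroup (𝟙_ (Over (Spec (CommRingCat.of K))) ⟶ G) where
  carrier := {g | connectedComponent (pt G g) = connectedComponent (pt G 1)}
  one_mem' := rfl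
  mul_mem' {g h} hg hh := by
    show connectedComponent (pt G (g * h)) = _
    rw [← image_component G g h, hh, image_component G g 1, _root_.mul_one, hg]
  inv_mem' {g} hg := by
    show connectedComponent (pt G g⁻¹) = _
    have hinj : Function.Injective (Basic.translate g).hom.left :=
      (Scheme.homeoOfIso ((Over.forget _).mapIso (Basic.translate g))).injective
    refine hinj.image_injective ?_
    rw [image_component, image_component, _root_.mul_inv_cancel, _root_.mul_one]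
    exact hg.symm

theorem mem_component_iff (x y : 𝟙_ (Over (Spec (CommRingCat.of K))) ⟶ G) :
    pt G y ∈ connectedComponent (pt G x) ↔ x⁻¹ * y ∈ unitPoints G := by
  have hinj : Function.Injective (Basic.translate x).hom.left :=
    (Scheme.homeoOfIso ((Over.forget _).mapIso (Basic.translate x))).injective
  have h1 : (Basic.translate x).hom.left '' connectedComponent (pt G 1) = connectedComponent (pt G x) := by
    rw [image_component, _root_.mul_one]
  have h2 : pt G y = (Basic.translate x).hom.left (pt G (x⁻¹ * y)) := by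
    rw [← pt_comp, comp_translate, mul_inv_cancel_left]
  rw [← h1, h2, hinj.mem_set_image]
  exact connectedComponent_eq_iff_mem.symm

theorem exists_pow_mem [NoetherianSpace G.left] (x : 𝟙_ (Over (Spec (CommRingCat.of K))) ⟶ G) :
    ∃ m : ℕ, 0 < m ∧ x ^ m ∈ unitPoints G := by
  have hfin : Finite (irreducibleComponents G.left) := NoetherianSpace.finite_irreducibleComponents.to_subtype
  let f : ℕ → irreducibleComponents G.left := fun i =>
    ⟨irreducibleComponent (pt G (x ^ i)), irreducibleComponent_mem_irreducibleComponents _⟩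
  obtain ⟨i, j, hij, hf⟩ : ∃ i j, i < j ∧ f i = f j := by
    obtain ⟨i, j, hne, hf⟩ := Finite.exists_ne_map_eq_of_infinite f
    rcases lt_or_gt_of_ne hne with h | h
    · exact ⟨i, j, h, hf⟩
    · exact ⟨j, i, h, hf.symm⟩
  refine ⟨j - i, Nat.sub_pos_of_lt hij, ?_⟩
  have hmem : pt G (x ^ j) ∈ connectedComponent (pt G (x ^ i)) := by
    refine isIrreducible_irreducibleComponent.isConnected.subset_connectedComponent mem_irreducibleComponent ?_
    show pt G (x ^ j) ∈ (f i).1
    rw [hf]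
    exact mem_irreducibleComponent
  rw [mem_component_iff] at hmem
  have e : x ^ (j - i) = (x ^ i)⁻¹ * x ^ j := by
    rw [eq_inv_mul_iff_mul_eq, ← pow_add, Nat.add_sub_cancel' hij.le]
  rw [e]
  exact hmem

theorem isOpen_component [NoetherianSpace G.left] (x : G.left) : IsOpen (connectedComponent x) := by
  rw [← isClosed_compl_iff]
  have h : (connectedComponent x)ᶜ =
      ⋃ Z ∈ {Z | Z ∈ irreducibleComponents G.left ∧ Disjoint Z (connectedComponent x)}, Z := by
    ext y
    simp only [Set.mem_compl_iff, Set.mem_iUnion, Set.mem_setOf_eq]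
    refine ⟨fun hy => ⟨irreducibleComponent y, ⟨irreducibleComponent_mem_irreducibleComponents y, ?_⟩,
      mem_irreducibleComponent⟩, fun ⟨Z, ⟨_, hd⟩, hyZ⟩ hy => Set.disjoint_left.1 hd hyZ hy⟩
    refine Set.disjoint_left.2 fun z hz hzx => hy ?_
    rw [connectedComponent_eq hzx]
    exact isIrreducible_irreducibleComponent.isConnected.subset_connectedComponent hz mem_irreducibleComponent
  rw [h]
  exact Set.Finite.isClosed_biUnion
    (NoetherianSpace.finite_irreducibleComponents.subset fun Z hZ => hZ.1)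
    fun Z hZ => isClosed_of_mem_irreducibleComponents Z hZ.1

variable [IsSepClosed K] [IsCommMonObj G] [Smooth G.hom] [QuasiCompact G.hom] [IsSeparated G.hom]

theorem exists_root [NoetherianSpace G.left] (m : ℕ) (hm : (m : K) ≠ 0)
    (g : 𝟙_ (Over (Spec (CommRingCat.of K))) ⟶ G) (hg : g ∈ unitPoints G) :
    ∃ w ∈ unitPoints G, w ^ m = g := by
  let P : G ⟶ G := 𝟙 G ^ (m : ℤ)
  have : Etale P.left := EtaleEndo.etale_zpow G (m : ℤ) (by simpa using hm)
  let C : Set G.left := connectedComponent (pt G 1)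
  have hCo : IsOpen C := isOpen_component G _
  let W : Set G.left := P.left '' C
  have hWo : IsOpen W := P.left.isOpenMap _ hCo
  have hP : ∀ w : 𝟙_ (Over (Spec (CommRingCat.of K))) ⟶ G, w ≫ P = w ^ m := fun w => by
    rw [GrpObj.comp_zpow, Category.comp_id, zpow_natCast]
  have hroot : ∀ v : 𝟙_ (Over (Spec (CommRingCat.of K))) ⟶ G, pt G v ∈ W → ∃ w ∈ unitPoints G, w ^ m = v := by
    rintro v ⟨y, hyC, hy⟩
    obtain ⟨z, hz, -⟩ := Scheme.Pullback.exists_preimage_pullback (f := P.left) (g := v.left)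
      y (closedPoint K) hy
    obtain ⟨s, hs, hsC⟩ := FgPoints.exists_point_mem (pullback.snd P.left v.left)
      (⟨pullback.fst P.left v.left ⁻¹' C, hCo.preimage (pullback.fst P.left v.left).continuous⟩ :
        (pullback P.left v.left).Opens) ⟨z, show _ ∈ C by rw [hz]; exact hyC⟩
    let w : 𝟙_ (Over (Spec (CommRingCat.of K))) ⟶ G := Over.homMk (s ≫ pullback.fst P.left v.left) (by
      change (s ≫ pullback.fst P.left v.left) ≫ G.hom = _
      rw [← Over.w P, Category.assoc, pullback.condition_assoc, reassoc_of% hs, Over.w v])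
    refine ⟨w, (connectedComponent_eq (show pt G w ∈ C from hsC)).symm, ?_⟩
    have : w ≫ P = v := by
      ext1
      change (s ≫ pullback.fst P.left v.left) ≫ P.left = v.left
      rw [Category.assoc, pullback.condition, reassoc_of% hs]
    rw [← hP, this]
  let t : G ≅ G := Basic.translate g
  have hirr : IsPreirreducible C := by
    rw [show C = irreducibleComponent (IdComponent.e₀ G) by
      rw [← IdComponent.connectedComponent_eq]; show connectedComponent (pt G 1) = _; rw [one_eq]]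
    exact isIrreducible_irreducibleComponent.isPreirreducible
  have h1W : pt G 1 ∈ W := ⟨pt G 1, mem_connectedComponent, by rw [← pt_comp, hP, one_pow]⟩
  have hne : (C ∩ ((t.hom.left ⁻¹' W) ∩ W)).Nonempty := by
    refine hirr _ _ (hWo.preimage t.hom.left.continuous) hWo
      ⟨pt G g⁻¹, ?_, ?_⟩ ⟨pt G 1, mem_connectedComponent, h1W⟩
    · have hi : connectedComponent (pt G g⁻¹) = C := (unitPoints G).inv_mem hg
      exact hi ▸ mem_connectedComponent
    · show t.hom.left (pt G g⁻¹) ∈ W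
      rw [← pt_comp, comp_translate, _root_.mul_inv_cancel]
      exact h1W
  obtain ⟨q, -, hq⟩ := hne
  obtain ⟨s, hs, hs₁, hs₂⟩ := FgPoints.exists_point_mem G.hom
    ⟨(t.hom.left ⁻¹' W) ∩ W, (hWo.preimage t.hom.left.continuous).inter hWo⟩ ⟨q, hq⟩
  let r : 𝟙_ (Over (Spec (CommRingCat.of K))) ⟶ G := Over.homMk s hs
  obtain ⟨w₂, h₂, hw₂⟩ := hroot r hs₂
  obtain ⟨w₁, h₁, hw₁⟩ := hroot (r ≫ t.hom) (by rw [pt_comp]; exact hs₁)
  refine ⟨w₁ * w₂⁻¹, (unitPoints G).mul_mem h₁ ((unitPoints G).inv_mem h₂), ?_⟩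
  rw [mul_pow, inv_pow, hw₁, hw₂, comp_translate, mul_inv_cancel_right]

/-- The criterion on a smooth commutative group over a separably closed field. -/
theorem split_iff [NoetherianSpace G.left] (p : ℕ) (hp : p.Prime) [CharP K p] :
    (∀ x : 𝟙_ (Over (Spec (CommRingCat.of K))) ⟶ G, ∃ y : 𝟙_ (Over (Spec (CommRingCat.of K))) ⟶ G,
      pt G y ∈ connectedComponent (pt G x) ∧
        ∀ n : ℕ, y ^ n = 1 ↔ pt G (x ^ n) ∈ connectedComponent (pt G η[G])) ↔
      ∀ x : 𝟙_ (Over (Spec (CommRingCat.of K))) ⟶ G,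
        (∃ r : ℕ, pt G (x ^ (p ^ r)) ∈ connectedComponent (pt G η[G])) →
          ∃ y : 𝟙_ (Over (Spec (CommRingCat.of K))) ⟶ G, pt G y ∈ connectedComponent (pt G x) ∧
            ∀ n : ℕ, y ^ n = 1 ↔ pt G (x ^ n) ∈ connectedComponent (pt G η[G]) := by
  rw [← one_eq]
  simp only [mem_component_iff, inv_one, _root_.one_mul]
  refine ⟨fun h x _ => h x, fun h x => split_of_pPart (unitPoints G) p hp (exists_pow_mem G) ?_ h x⟩
  intro m x hpm hxm
  obtain ⟨w, hw, hwm⟩ := exists_root G m (fun h0 => hpm ((CharP.cast_eq_zero_iff K p m).1 h0)) _ hxm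
  refine ⟨x * w⁻¹, ?_, ?_⟩
  · rw [inv_mul_cancel_left]
    exact (unitPoints G).inv_mem hw
  · rw [mul_pow, inv_pow, hwm, _root_.mul_inv_cancel]

end Groth.Agent.NeronSplitP
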